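import Groth.Agent.Punctured93.Conn
import Groth.Agent.BrnchLib.ComplMin
import Groth.Agent.WEtLib.Basic
import Groth.Agent.FormalFib6.Cplt
import Groth.Agent.S0506
import Groth.Agent.S0537
import Groth.Agent.S0538
import Groth.Agent.S0540
import Groth.Agent.S0736
import Groth.Agent.S12237
import Mathlib.FieldTheory.IsSepClosed

/-!
# Henselizations of a Noetherian local ring inside (strict henselizations of) its completion
-/

set_option autoImplicit false
set_option linter.style.haveILetI false

universe u

namespace Groth.Agent.Punctured93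

open IsLocalRing

/-- It is enough to be dense modulo the maximal ideal. -/
theorem dense_of_one {S T : Type u} [CommRing S] [IsLocalRing S] [CommRing T] [Algebra S T]
    (h : ∀ t : T, ∃ s : S, t - algebraMap S T s ∈ (maximalIdeal S).map (algebraMap S T)) : Dense S T := by
  intro n
  induction n with
  | zero => exact fun t => ⟨0, by simp [Ideal.map_top]⟩
  | succ n ih =>
    intro t
    obtain ⟨s, hs⟩ := ih t
    have key : ∀ x ∈ (maximalIdeal S ^ n).map (algebraMap S T),
        ∃ s' : S, x - algebraMap S T s' ∈ (maximalIdeal S ^ (n + 1)).map (algebraMap S T) := by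
      intro x hx
      induction hx using Submodule.span_induction with
      | mem x hx =>
        obtain ⟨a, _, rfl⟩ := hx
        exact ⟨a, by simp⟩
      | zero => exact ⟨0, by simp⟩
      | add x y _ _ hx hy =>
        obtain ⟨a, ha⟩ := hx
        obtain ⟨b, hb⟩ := hy
        exact ⟨a + b, by rw [map_add, add_sub_add_comm]; exact add_mem ha hb⟩
      | smul c x hxm hx =>
        obtain ⟨a, ha⟩ := hx
        obtain ⟨b, hb⟩ := h c
        refine ⟨b * a, ?_⟩
        have : c • x - algebraMap S T (b * a) =
            (c - algebraMap S T b) * x + algebraMap S T b * (x - algebraMap S T a) := by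
          rw [smul_eq_mul, map_mul]; ring
        rw [this]
        refine add_mem ?_ (Ideal.mul_mem_left _ _ ha)
        rw [pow_succ', Ideal.map_mul]
        exact Ideal.mul_mem_mul hb hxm
    obtain ⟨s', hs'⟩ := key _ hs
    exact ⟨s + s', by rwa [map_add, ← sub_sub]⟩

/-- A henselization maps densely and faithfully flatly to the completion. -/
theorem exists_henselization_completion (A : Type u) [CommRing A] [IsLocalRing A] [IsNoetherianRing A]
    (S : Type u) [CommRing S] [IsLocalRing S] [Algebra A S] [IsLocalHom (algebraMap A S)]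
    [_root_.Hensel.IsHenselization A S] :
    ∃ ψ : S →+* AdicCompletion (maximalIdeal A) A,
      ψ.comp (algebraMap A S) = algebraMap A (AdicCompletion (maximalIdeal A) A) := by
  haveI := BrnchLib.henselianLocalRing_completion A
  obtain ⟨g, hg, -⟩ := _root_.Hensel.IsHenselization.universal (R := A) (S := S) (AdicCompletion (maximalIdeal A) A)
    (algebraMap A (AdicCompletion (maximalIdeal A) A)) inferInstance
  exact ⟨g, hg⟩

/-- The strict henselization of a Noetherian local ring maps densely and faithfully flatly into that of its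
completion. -/
theorem exists_strictHenselization_completion (A : Type u) [CommRing A] [IsLocalRing A] [IsNoetherianRing A]
    (S : Type u) [CommRing S] [IsLocalRing S] [Algebra A S] [IsLocalHom (algebraMap A S)]
    [_root_.Hensel.IsStrictHenselization A S]
    (T : Type u) [CommRing T] [IsLocalRing T] [Algebra (AdicCompletion (maximalIdeal A) A) T]
    [IsLocalHom (algebraMap (AdicCompletion (maximalIdeal A) A) T)]
    [_root_.Hensel.IsStrictHenselization (AdicCompletion (maximalIdeal A) A) T] :
    ∃ φ : S →+* T, φ.comp (algebraMap A S) =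
        (algebraMap (AdicCompletion (maximalIdeal A) A) T).comp (algebraMap A (AdicCompletion (maximalIdeal A) A)) ∧
      (letI := φ.toAlgebra; Module.FaithfullyFlat S T ∧ Dense S T) := by
  let Ah := AdicCompletion (maximalIdeal A) A
  have hmap : maximalIdeal Ah = (maximalIdeal A).map (algebraMap A Ah) :=
    AdicCompletion.maximalIdeal_eq_map_of_fg (IsNoetherian.noetherian _)
  haveI : HenselianLocalRing T := _root_.Hensel.IsStrictHenselization.henselian (Ah)
  letI : Algebra A T := ((algebraMap Ah T).comp (algebraMap A Ah)).toAlgebra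
  haveI : IsScalarTower A Ah T := IsScalarTower.of_algebraMap_eq' rfl
  haveI : IsLocalHom (algebraMap A T) := RingHom.isLocalHom_comp _ _
  haveI hbij : Function.Bijective (algebraMap (ResidueField A) (ResidueField Ah)) := by
    refine ⟨(algebraMap (ResidueField A) (ResidueField Ah)).injective, fun x => ?_⟩
    obtain ⟨y, rfl⟩ := residue_surjective x
    obtain ⟨a, ha⟩ := Submodule.mkQ_surjective _ (AdicCompletion.eval (maximalIdeal A) A 1 y)
    refine ⟨residue A a, ?_⟩
    rw [ResidueField.algebraMap_residue]
    refine Ideal.Quotient.eq.mpr ?_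
    rw [hmap]
    have h1 : algebraMap A Ah a - y ∈ (maximalIdeal A ^ 1 • ⊤ : Submodule A Ah) := by
      rw [AdicCompletion.pow_smul_top_eq_ker_eval (IsNoetherian.noetherian _), LinearMap.mem_ker, map_sub, ← ha,
        sub_eq_zero]
      exact AdicCompletion.eval_of _ _ 1 a
    rwa [Ideal.smul_top_eq_map, pow_one] at h1
  haveI hSsep : IsSepClosure (ResidueField A) (ResidueField S) := _root_.Hensel.IsStrictHenselization.isSepClosure
  haveI hTsep : IsSepClosure (ResidueField Ah) (ResidueField T) := _root_.Hensel.IsStrictHenselization.isSepClosure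
  haveI : IsScalarTower (ResidueField A) (ResidueField Ah) (ResidueField T) := IsScalarTower.of_algebraMap_eq fun x => by
    obtain ⟨a, rfl⟩ := residue_surjective x
    rfl
  haveI : IsSepClosure (ResidueField A) (ResidueField T) :=
    haveI : IsSepClosed (ResidueField T) := IsSepClosure.sep_closed (ResidueField Ah)
    haveI : Algebra.IsSeparable (ResidueField Ah) (ResidueField T) := IsSepClosure.separable
    haveI : Algebra.IsSeparable (ResidueField A) (ResidueField Ah) :=
      ⟨fun x => by obtain ⟨a, rfl⟩ := hbij.2 x; exact isSeparable_algebraMap a⟩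
    ⟨inferInstance, Algebra.IsSeparable.trans (ResidueField A) (ResidueField Ah) (ResidueField T)⟩
  let τ : ResidueField S ≃ₐ[ResidueField A] ResidueField T := IsSepClosure.equiv _ _ _
  obtain ⟨φ, ⟨hφ, hφτ⟩, -⟩ := _root_.Hensel.IsStrictHenselization.universal (R := A) (S := S) T (algebraMap A T)
    τ.toRingEquiv.toRingHom (RingHom.ext fun x => by
      obtain ⟨a, rfl⟩ := residue_surjective x
      exact τ.commutes _)
  refine ⟨φ, hφ, ?_⟩
  letI : Algebra S T := φ.toAlgebra
  haveI : IsScalarTower A S T := IsScalarTower.of_algebraMap_eq' hφ.symm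
  haveI : IsLocalHom (algebraMap S T) := ⟨fun s hs => by
    by_contra h
    have h1 := hφτ s
    rw [(residue_eq_zero_iff s).mpr ((mem_maximalIdeal s).mpr h), map_zero, residue_eq_zero_iff] at h1
    exact (mem_maximalIdeal _).mp h1 hs⟩
  haveI : Algebra.WeaklyEtale A S := Groth.Agent.S0736.result A S (Groth.Agent.S12237.result A S)
  haveI : Algebra.WeaklyEtale Ah T := Groth.Agent.S0736.result Ah T (Groth.Agent.S12237.result Ah T)
  haveI : Module.Flat A Ah := AdicCompletion.flat_of_isNoetherian (maximalIdeal A)
  haveI : Module.Flat A T := Module.Flat.trans A Ah T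
  haveI : Module.Flat S T := WEtLib.flat_of_flat (A := A) (B := S) T
  refine ⟨Module.FaithfullyFlat.of_flat_of_isLocalHom, dense_of_one fun t => ?_⟩
  obtain ⟨s, hs⟩ := residue_surjective (τ.symm (residue T t))
  refine ⟨s, ?_⟩
  have hTm : (maximalIdeal S).map (algebraMap S T) = maximalIdeal T := by
    rw [← Groth.Agent.S0538.result A S, Ideal.map_map, ← IsScalarTower.algebraMap_eq,
      IsScalarTower.algebraMap_eq A Ah T, ← Ideal.map_map, ← hmap]
    exact Groth.Agent.S0538.result Ah T
  rw [hTm]
  refine Ideal.Quotient.eq.mp ?_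
  change residue T t = residue T (φ s)
  rw [hφτ s, hs]
  exact (τ.apply_symm_apply _).symm

/-- If all components of the larger ring are one-dimensional, both rings have the same number of minimal primes. -/
theorem card_minimalPrimes_eq {S T : Type u} [CommRing S] [HenselianLocalRing S] [IsNoetherianRing S] [CommRing T]
    [IsLocalRing T] [IsNoetherianRing T] [Algebra S T] [Module.FaithfullyFlat S T] (hd : Dense S T)
    (hdim : ringKrullDim T = 1) : ENat.card (minimalPrimes S) = ENat.card (minimalPrimes T) := by
  have hψ : letI := (algebraMap S T).toAlgebra; Module.FaithfullyFlat S T := by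
    convert ‹Module.FaithfullyFlat S T›
    exact Algebra.algebra_ext _ _ fun _ => rfl
  rw [BrnchLib.card_eq_iff_radical_prime (algebraMap S T) hψ]
  intro q hq
  haveI := hq.1.1
  obtain ⟨P, hP, hc⟩ := BrnchLib.surjOn_minimalPrimes (algebraMap S T) hψ hq
  haveI := hP.1.1
  have hP' := (BrnchLib.mem_minimalPrimes_map_iff (algebraMap S T) hψ hq).mpr ⟨hP, hc⟩
  have hne : P ≠ maximalIdeal T := fun h => by
    subst h
    haveI : Ring.KrullDimLE 0 T := Ring.krullDimLE_zero_iff.mpr fun I hI => by
      rw [le_antisymm (le_maximalIdeal hI.ne_top') (hP.2 ⟨hI, bot_le⟩ (le_maximalIdeal hI.ne_top'))]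
      infer_instance
    have h0 : ringKrullDim T ≤ 0 := Ring.krullDimLE_iff.mp inferInstance
    rw [hdim] at h0
    exact not_lt.mpr h0 zero_lt_one
  have hdP : ringKrullDim (T ⧸ P) = 1 := by
    refine le_antisymm ((ringKrullDim_quotient_le P).trans hdim.le) ?_
    haveI : Nontrivial (T ⧸ P) := Ideal.Quotient.nontrivial_iff.mpr hP.1.1.ne_top'
    have hle : ¬ Ring.KrullDimLE 0 (T ⧸ P) := fun h => hne (eq_maximalIdeal (by
      haveI : (⊥ : Ideal (T ⧸ P)).IsMaximal := Ideal.IsPrime.isMaximal' Ideal.isPrime_bot
      have h2 := Ideal.comap_isMaximal_of_surjective (Ideal.Quotient.mk P) Ideal.Quotient.mk_surjective (K := ⊥)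
      rwa [← RingHom.ker_eq_comap_bot, Ideal.mk_ker] at h2))
    rw [Ring.krullDimLE_iff, not_le] at hle
    exact Order.succ_le_of_lt hle
  rw [← Ideal.sInf_minimalPrimes, minimalPrimes_map_eq_singleton hd q P hP' hdP, sInf_singleton]
  exact hP.1.1

end Groth.Agent.Punctured93
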