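import Groth.Agent.Punctured93.Core
import Groth.Agent.Hensel.Local
import Mathlib.RingTheory.AdicCompletion.LocalRing
import Mathlib.RingTheory.AdicCompletion.AsTensorProduct
import Mathlib.RingTheory.TensorProduct.Quotient
import Mathlib.RingTheory.Ideal.Over
import Mathlib.RingTheory.KrullDimension.Field

/-!
# Punctured spectra along dense faithfully flat extensions of henselian local rings
-/

set_option autoImplicit false

universe u

namespace Groth.Agent.Punctured93

open IsLocalRing

variable {S T : Type u} [CommRing S] [HenselianLocalRing S] [IsNoetherianRing S]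
  [CommRing T] [IsLocalRing T] [IsNoetherianRing T] [Algebra S T] [Module.FaithfullyFlat S T]

/-- The nilpotent-product form of a splitting: ideals covering the whole spectrum and meeting only in the
closed point contract to ideals with the same properties. -/
theorem exists_split_comap (hd : Dense S T) (I J : Ideal T) (hI : I ≠ ⊤) (hJ : J ≠ ⊤) (hIJ : I * J ≤ nilradical T)
    (hsup : maximalIdeal T ≤ (I ⊔ J).radical) :
    ∃ N : ℕ, N ≠ 0 ∧ maximalIdeal S ^ N ≤ I.comap (algebraMap S T) ⊔ J.comap (algebraMap S T) ∧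
      I.comap (algebraMap S T) * J.comap (algebraMap S T) ≤ nilradical S := by
  obtain ⟨c, hc⟩ := IsNoetherianRing.isNilpotent_nilradical T
  set I' := I ^ (c + 1)
  set J' := J ^ (c + 1)
  have hprod : I' * J' = ⊥ := by
    rw [← mul_pow, eq_bot_iff]
    exact (pow_le_pow_left' hIJ _).trans (by rw [pow_succ, hc, zero_mul]; exact le_rfl)
  have hrad : maximalIdeal T ≤ (I' ⊔ J').radical := by
    refine hsup.trans (Ideal.radical_le_radical_iff.mpr (sup_le ?_ ?_))
    · exact le_trans ((Ideal.radical_pow I (Nat.succ_ne_zero c)).ge.trans' Ideal.le_radical) (Ideal.radical_mono le_sup_left)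
    · exact le_trans ((Ideal.radical_pow J (Nat.succ_ne_zero c)).ge.trans' Ideal.le_radical) (Ideal.radical_mono le_sup_right)
  obtain ⟨k, hk⟩ := Ideal.exists_pow_le_of_le_radical_of_fg hrad (IsNoetherian.noetherian _)
  have hmk : (maximalIdeal S ^ (k + 1)).map (algebraMap S T) ≤ I' ⊔ J' := by
    rw [Ideal.map_pow, hd.map_maximalIdeal]
    exact (Ideal.pow_le_pow_right k.le_succ).trans hk
  have h := le_comap_sup_comap hd (k := k + 1) k.succ_ne_zero I' J'
    (ne_top_of_le_ne_top hI (Ideal.pow_le_self c.succ_ne_zero))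
    (ne_top_of_le_ne_top hJ (Ideal.pow_le_self c.succ_ne_zero)) hmk
    (eq_bot_iff.mpr ((Ideal.mul_mono_left hmk).trans (by
      rw [Ideal.sup_mul]
      refine sup_le ((Ideal.mul_mono_right inf_le_right).trans hprod.le) ?_
      exact (Ideal.mul_mono_right inf_le_left).trans ((mul_comm J' I').trans hprod).le)))
  refine ⟨k + 1, k.succ_ne_zero, h.trans (sup_le_sup (Ideal.comap_mono (Ideal.pow_le_self c.succ_ne_zero))
    (Ideal.comap_mono (Ideal.pow_le_self c.succ_ne_zero))), Ideal.mul_le.mpr fun a ha b hb => ?_⟩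
  rw [mem_nilradical]
  refine (IsNilpotent.map_iff (f := algebraMap S T) (FaithfulSMul.algebraMap_injective S T)).mp ?_
  rw [← mem_nilradical, map_mul]
  exact hIJ (Ideal.mul_mem_mul ha hb)

omit [IsNoetherianRing T] [IsNoetherianRing S] in
theorem comap_asIdeal_eq_maximalIdeal_iff (hd : Dense S T) (P : Ideal T) [P.IsPrime] :
    P.comap (algebraMap S T) = maximalIdeal S ↔ P = maximalIdeal T := by
  constructor
  · intro h
    refine le_antisymm (le_maximalIdeal Ideal.IsPrime.ne_top') ?_
    rw [← hd.map_maximalIdeal, Ideal.map_le_iff_le_comap, h]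
  · rintro rfl
    rw [← hd.map_maximalIdeal]
    exact Ideal.comap_map_eq_self_of_faithfullyFlat _

/-- The punctured spectrum of `T` is preconnected iff that of `S` is. -/
theorem isPreconnected_punctured_iff (hd : Dense S T) :
    IsPreconnected ({closedPoint T}ᶜ : Set (PrimeSpectrum T)) ↔ IsPreconnected ({closedPoint S}ᶜ : Set (PrimeSpectrum S)) := by
  have hpre : PrimeSpectrum.comap (algebraMap S T) ⁻¹' {closedPoint S}ᶜ = {closedPoint T}ᶜ := by
    ext P
    simp only [Set.mem_preimage, Set.mem_compl_iff, Set.mem_singleton_iff, not_iff_not, PrimeSpectrum.ext_iff,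
      PrimeSpectrum.comap_asIdeal]
    exact comap_asIdeal_eq_maximalIdeal_iff hd P.asIdeal
  have hsurj := PrimeSpectrum.comap_surjective_of_faithfullyFlat (A := S) (B := T)
  constructor
  · intro h
    rw [← Set.image_preimage_eq {closedPoint S}ᶜ hsurj, hpre]
    exact h.image _ (PrimeSpectrum.continuous_comap _).continuousOn
  · intro h
    rw [isPreconnected_closed_iff]
    intro t t' ht ht' hcov hne hne'
    obtain ⟨I, rfl⟩ := (PrimeSpectrum.isClosed_iff_zeroLocus_ideal t).mp ht
    obtain ⟨J, rfl⟩ := (PrimeSpectrum.isClosed_iff_zeroLocus_ideal t').mp ht'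
    by_contra hempty
    obtain ⟨P, hP, hPI⟩ := hne
    obtain ⟨Q, hQ, hQJ⟩ := hne'
    have hIJ : I * J ≤ nilradical T := by
      rw [nilradical_eq_sInf]
      refine le_sInf fun p (hp : p.IsPrime) => ?_
      by_cases hpm : p = maximalIdeal T
      · subst hpm
        exact Ideal.mul_le_right.trans (le_trans (show J ≤ Q.asIdeal from hQJ) (le_maximalIdeal Q.2.ne_top'))
      · rcases hcov (show (⟨p, hp⟩ : PrimeSpectrum T) ∈ ({closedPoint T}ᶜ : Set _) from fun h =>
          hpm (congrArg PrimeSpectrum.asIdeal (Set.mem_singleton_iff.mp h))) with h' | h'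
        · exact Ideal.mul_le_left.trans h'
        · exact Ideal.mul_le_right.trans h'
    have hsup : maximalIdeal T ≤ (I ⊔ J).radical := by
      rw [Ideal.radical_eq_sInf]
      refine le_sInf fun p ⟨hle, (hp : p.IsPrime)⟩ => ?_
      by_contra hne
      refine hempty ⟨⟨p, hp⟩, fun h => hne ?_, (le_sup_left.trans hle : I ≤ p), (le_sup_right.trans hle : J ≤ p)⟩
      exact (show p = maximalIdeal T from congrArg PrimeSpectrum.asIdeal (Set.mem_singleton_iff.mp h)).ge
    obtain ⟨N, -, hN, hmul⟩ := exists_split_comap hd I J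
      (fun h => P.2.ne_top' (top_le_iff.mp (h ▸ (hPI : I ≤ P.asIdeal))))
      (fun h => Q.2.ne_top' (top_le_iff.mp (h ▸ (hQJ : J ≤ Q.asIdeal)))) hIJ hsup
    have hmem : ∀ P : PrimeSpectrum T, P ∈ ({closedPoint T}ᶜ : Set _) →
        PrimeSpectrum.comap (algebraMap S T) P ∈ ({closedPoint S}ᶜ : Set _) := fun P hP => by
      rw [← hpre] at hP; exact hP
    obtain ⟨q, hq, hqI, hqJ⟩ := isPreconnected_closed_iff.mp h
      (PrimeSpectrum.zeroLocus (I.comap (algebraMap S T) : Set S))
      (PrimeSpectrum.zeroLocus (J.comap (algebraMap S T) : Set S))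
      (PrimeSpectrum.isClosed_zeroLocus _) (PrimeSpectrum.isClosed_zeroLocus _)
      (fun q _ => by
        rcases q.2.mul_le.mp (hmul.trans (nilradical_le_prime q.asIdeal)) with h' | h'
        · exact Or.inl h'
        · exact Or.inr h')
      ⟨_, hmem P hP, fun a ha => hPI ha⟩ ⟨_, hmem Q hQ, fun a ha => hQJ ha⟩
    refine hq (Set.mem_singleton_iff.mpr (PrimeSpectrum.ext (le_antisymm (le_maximalIdeal q.2.ne_top') ?_)))
    exact Ideal.IsPrime.le_of_pow_le (hN.trans (sup_le hqI hqJ))

/-- A one-dimensional component of an extended prime is the only one. -/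
theorem minimalPrimes_eq_singleton [IsDomain S] (hd : Dense S T) (P : Ideal T) (hP : P ∈ minimalPrimes T)
    (hdim : ringKrullDim (T ⧸ P) = 1) : minimalPrimes T = {P} := by
  classical
  haveI := hP.1.1
  refine Set.eq_singleton_iff_unique_mem.mpr ⟨hP, fun Q hQ => ?_⟩
  by_contra hne
  have hfin := minimalPrimes.finite_of_isNoetherianRing T
  set J : Ideal T := (hfin.toFinset.erase P).inf id
  have hJle : ∀ R ∈ minimalPrimes T, R ≠ P → J ≤ R := fun R hR hRP =>
    Finset.inf_le (f := id) (Finset.mem_erase.mpr ⟨hRP, hfin.mem_toFinset.mpr hR⟩)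
  have hPJ : ¬ J ≤ P := fun h => by
    obtain ⟨R, hR, hRP⟩ := (Ideal.IsPrime.inf_le' inferInstance).mp h
    obtain ⟨hRne, hR⟩ := Finset.mem_erase.mp hR
    exact hRne (le_antisymm hRP (hP.2 ⟨(hfin.mem_toFinset.mp hR).1.1, bot_le⟩ hRP))
  have hIJ : P * J ≤ nilradical T := by
    rw [show nilradical T = (⊥ : Ideal T).radical from rfl, ← Ideal.sInf_minimalPrimes]
    refine le_sInf fun R hR => ?_
    by_cases h : R = P
    · exact h ▸ Ideal.mul_le_left
    · exact Ideal.mul_le_right.trans (hJle R hR h)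
  have hsup : maximalIdeal T ≤ (P ⊔ J).radical := by
    rw [Ideal.radical_eq_sInf]
    refine le_sInf fun p ⟨hle, (hp : p.IsPrime)⟩ => ?_
    by_contra hpm
    have hlt : P < p := lt_of_le_of_ne (le_sup_left.trans hle) fun h => hPJ ((le_sup_right.trans hle).trans h.ge)
    have hpm' : p ≠ maximalIdeal T := fun h => hpm h.ge
    have hmk : RingHom.ker (Ideal.Quotient.mk P) = P := Ideal.mk_ker
    haveI : Ring.KrullDimLE 1 (T ⧸ P) := (Ring.krullDimLE_iff (n := 1)).mpr hdim.le
    have hmax : (p.map (Ideal.Quotient.mk P)).IsMaximal := by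
      refine Ideal.IsPrime.isMaximal_of_ne_bot (Ideal.map_isPrime_of_surjective Ideal.Quotient.mk_surjective (hmk.le.trans hlt.le)) ?_
      intro h
      exact hlt.not_ge ((Ideal.map_eq_bot_iff_le_ker _).mp h |>.trans hmk.le)
    have := Ideal.comap_isMaximal_of_surjective (Ideal.Quotient.mk P) Ideal.Quotient.mk_surjective (K := p.map (Ideal.Quotient.mk P))
    rw [Ideal.comap_map_of_surjective _ Ideal.Quotient.mk_surjective, ← RingHom.ker_eq_comap_bot, hmk,
      sup_eq_left.mpr hlt.le] at this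
    exact hpm' (eq_maximalIdeal this)
  obtain ⟨N, hN0, hN, hmul⟩ := exists_split_comap hd P J hP.1.1.ne_top'
    (ne_top_of_le_ne_top hQ.1.1.ne_top' (hJle Q hQ hne)) hIJ hsup
  have hPm : P ≠ maximalIdeal T := fun h => by
    subst h
    haveI : (maximalIdeal T).IsMaximal := inferInstance
    letI := Ideal.Quotient.field (maximalIdeal T)
    rw [ringKrullDim_eq_zero_of_field] at hdim
    exact zero_ne_one hdim
  rw [nilradical_eq_zero] at hmul
  rcases Ideal.mul_eq_bot.mp (le_bot_iff.mp hmul) with h | h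
  · rw [h, bot_sup_eq] at hN
    have hmJ : maximalIdeal T ≤ J.radical := by
      rw [← hd.map_maximalIdeal, Ideal.map_le_iff_le_comap]
      intro s hs
      exact ⟨N, by rw [← map_pow]; exact hN (Ideal.pow_mem_pow hs N)⟩
    exact absurd (hmJ.trans ((hQ.1.1.radical_le_iff).mpr (hJle Q hQ hne))) fun hle =>
      hne (le_antisymm (hQ.2 ⟨hP.1.1, bot_le⟩ (le_trans (le_maximalIdeal hP.1.1.ne_top') hle))
        (le_trans (le_maximalIdeal hP.1.1.ne_top') hle))
  · rw [h, sup_bot_eq] at hN
    refine hPm (le_antisymm (le_maximalIdeal hP.1.1.ne_top') ?_)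
    rw [← hd.map_maximalIdeal, Ideal.map_le_iff_le_comap]
    exact Ideal.IsPrime.le_of_pow_le hN

/-- Density and faithful flatness pass to the quotient by a prime of the base. -/
theorem minimalPrimes_map_eq_singleton (hd : Dense S T) (q : Ideal S) [q.IsPrime] (P : Ideal T)
    (hP : P ∈ (q.map (algebraMap S T)).minimalPrimes) (hdim : ringKrullDim (T ⧸ P) = 1) :
    (q.map (algebraMap S T)).minimalPrimes = {P} := by
  classical
  set qT := q.map (algebraMap S T) with hqT
  have hqTne : qT ≠ ⊤ := fun h => Ideal.IsPrime.ne_top' (I := q) (by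
    rw [← Ideal.comap_map_eq_self_of_faithfullyFlat (B := T) q, ← hqT, h, Ideal.comap_top])
  haveI : Nontrivial (T ⧸ qT) := Ideal.Quotient.nontrivial_iff.mpr hqTne
  haveI : IsLocalRing (T ⧸ qT) := IsLocalRing.of_surjective' _ Ideal.Quotient.mk_surjective
  haveI : IsLocalRing (S ⧸ q) :=
    haveI : Nontrivial (S ⧸ q) := Ideal.Quotient.nontrivial_iff.mpr Ideal.IsPrime.ne_top'
    IsLocalRing.of_surjective' _ Ideal.Quotient.mk_surjective
  haveI : HenselianLocalRing (S ⧸ q) := Groth.Agent.Hensel.henselianLocalRing_of_finite S (S ⧸ q)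
  haveI : Nontrivial (S ⧸ q) := Ideal.Quotient.nontrivial_iff.mpr Ideal.IsPrime.ne_top'
  haveI : Module.FaithfullyFlat (S ⧸ q) (T ⧸ qT) :=
    Module.FaithfullyFlat.of_linearEquiv _ _ (Algebra.TensorProduct.quotIdealMapEquivQuotTensor T q).toLinearEquiv
  have hd' : Dense (S ⧸ q) (T ⧸ qT) := fun n t => by
    obtain ⟨t, rfl⟩ := Ideal.Quotient.mk_surjective t
    obtain ⟨s, hs⟩ := hd n t
    refine ⟨Ideal.Quotient.mk q s, ?_⟩
    have hm := Ideal.mem_map_of_mem (Ideal.Quotient.mk qT) hs
    rw [Ideal.map_map, map_sub] at hm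
    have hsub : Ideal.map ((Ideal.Quotient.mk qT).comp (algebraMap S T)) (maximalIdeal S ^ n) ≤
        (maximalIdeal (S ⧸ q) ^ n).map (algebraMap (S ⧸ q) (T ⧸ qT)) := by
      rw [show (Ideal.Quotient.mk qT).comp (algebraMap S T) =
        (algebraMap (S ⧸ q) (T ⧸ qT)).comp (Ideal.Quotient.mk q) from RingHom.ext fun _ => rfl, ← Ideal.map_map,
        Ideal.map_pow (Ideal.Quotient.mk q)]
      exact Ideal.map_mono (pow_le_pow_left' (IsLocalRing.map_maximalIdeal_of_surjective _ Ideal.Quotient.mk_surjective).le n)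
    exact hsub hm
  have hmk : RingHom.ker (Ideal.Quotient.mk qT) = qT := Ideal.mk_ker
  have hbij : ∀ R, R ∈ qT.minimalPrimes → R.map (Ideal.Quotient.mk qT) ∈ minimalPrimes (T ⧸ qT) := fun R hR => by
    haveI := hR.1.1
    refine ⟨⟨Ideal.map_isPrime_of_surjective Ideal.Quotient.mk_surjective (hmk.le.trans hR.1.2), bot_le⟩,
      fun R' ⟨hR', _⟩ hle => Ideal.map_le_iff_le_comap.mpr ?_⟩
    refine hR.2 ⟨hR'.comap _, (hmk.ge.trans (Ideal.comap_mono bot_le))⟩ ?_
    refine (Ideal.comap_mono hle).trans ?_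
    rw [Ideal.comap_map_of_surjective _ Ideal.Quotient.mk_surjective, ← RingHom.ker_eq_comap_bot, hmk]
    exact sup_le le_rfl hR.1.2
  have hdim' : ringKrullDim ((T ⧸ qT) ⧸ P.map (Ideal.Quotient.mk qT)) = 1 := by
    rw [ringKrullDim_eq_of_ringEquiv (DoubleQuot.quotQuotEquivQuotOfLE hP.1.2)]
    exact hdim
  have huniq := minimalPrimes_eq_singleton hd' _ (hbij P hP) hdim'
  refine Set.eq_singleton_iff_unique_mem.mpr ⟨hP, fun R hR => ?_⟩
  have h : R.map (Ideal.Quotient.mk qT) = P.map (Ideal.Quotient.mk qT) := Set.mem_singleton_iff.mp (huniq ▸ hbij R hR)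
  have h2 := congrArg (Ideal.comap (Ideal.Quotient.mk qT)) h
  rwa [Ideal.comap_map_of_surjective _ Ideal.Quotient.mk_surjective,
    Ideal.comap_map_of_surjective _ Ideal.Quotient.mk_surjective, ← RingHom.ker_eq_comap_bot, hmk,
    sup_eq_left.mpr hR.1.2, sup_eq_left.mpr hP.1.2] at h2

omit [IsNoetherianRing S] [IsNoetherianRing T] [Module.FaithfullyFlat S T] in
/-- Density of a henselian ring between a local ring and its completion. -/
theorem dense_of_completion {A : Type u} [CommRing A] [IsLocalRing A] [IsNoetherianRing A] [Algebra A S]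
    [Algebra S (AdicCompletion (maximalIdeal A) A)] [IsScalarTower A S (AdicCompletion (maximalIdeal A) A)]
    (hm : (maximalIdeal A).map (algebraMap A S) = maximalIdeal S) : Dense S (AdicCompletion (maximalIdeal A) A) := by
  intro n t
  have fg : (maximalIdeal A).FG := IsNoetherian.noetherian _
  obtain ⟨a, ha⟩ := Submodule.mkQ_surjective _ (AdicCompletion.eval (maximalIdeal A) A n t)
  refine ⟨algebraMap A S a, ?_⟩
  rw [← IsScalarTower.algebraMap_apply, ← hm, ← Ideal.map_pow, Ideal.map_map, ← IsScalarTower.algebraMap_eq]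
  have h1 : t - algebraMap A (AdicCompletion (maximalIdeal A) A) a ∈
      (maximalIdeal A ^ n • ⊤ : Submodule A (AdicCompletion (maximalIdeal A) A)) := by
    rw [AdicCompletion.pow_smul_top_eq_ker_eval fg, LinearMap.mem_ker, map_sub, ← ha, sub_eq_zero]
    exact (AdicCompletion.eval_of _ _ n a).symm
  rw [Ideal.smul_top_eq_map] at h1
  exact h1

end Groth.Agent.Punctured93
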