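import Mathlib.RingTheory.Henselian
import Mathlib.RingTheory.Flat.EquationalCriterion
import Mathlib.RingTheory.Flat.FaithfullyFlat.Algebra
import Mathlib.RingTheory.Spectrum.Prime.Topology
import Mathlib.RingTheory.Nilpotent.Lemmas
import Mathlib.RingTheory.Noetherian.Nilpotent

/-!
# Splittings of the punctured spectrum descend to henselian local rings

`T` is a faithfully flat local algebra over a Noetherian henselian local ring `S`, with
`S → T ⧸ m ^ n T` surjective for all `n` (completion, for example).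
-/

set_option autoImplicit false

universe u

namespace Groth.Agent.Punctured93

open IsLocalRing Polynomial

variable {S T : Type u} [CommRing S] [HenselianLocalRing S] [CommRing T] [IsLocalRing T] [Algebra S T]

/-- `S` is dense in `T` for the adic topology of the maximal ideal of `S`. -/
def Dense (S T : Type u) [CommRing S] [IsLocalRing S] [CommRing T] [Algebra S T] : Prop :=
  ∀ (n : ℕ) (t : T), ∃ s : S, t - algebraMap S T s ∈ (maximalIdeal S ^ n).map (algebraMap S T)

theorem Dense.map_maximalIdeal (hd : Dense S T) [Module.FaithfullyFlat S T] :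
    (maximalIdeal S).map (algebraMap S T) = maximalIdeal T := by
  have hne : (maximalIdeal S).map (algebraMap S T) ≠ ⊤ := fun h => by
    have := (maximalIdeal S).comap_map_eq_self_of_faithfullyFlat (B := T)
    rw [h, Ideal.comap_top] at this
    exact (maximalIdeal.isMaximal S).ne_top this.symm
  refine le_antisymm (le_maximalIdeal hne) fun t ht => ?_
  obtain ⟨s, hs⟩ := hd 1 t
  rw [pow_one] at hs
  by_cases hsu : IsUnit s
  · exact absurd ht (fun ht => (maximalIdeal.isMaximal T).ne_top (Ideal.eq_top_of_isUnit_mem _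
      (by simpa using sub_mem ht (le_maximalIdeal hne hs)) (hsu.map (algebraMap S T))))
  · simpa using add_mem hs (Ideal.mem_map_of_mem (algebraMap S T) ((mem_maximalIdeal s).mpr hsu))

/-- Solutions in `T` of a homogeneous linear system over `S` are approximated by solutions in `S`,
with the error in `b`-combinations of solutions. -/
theorem exists_approx [Module.Flat S T] (hd : Dense S T) (n : ℕ) {ι κ : Type u} [Fintype ι] [Fintype κ]
    [DecidableEq ι] (M : κ → ι → S) (x : ι → T) (h : ∀ q, ∑ i, algebraMap S T (M q i) * x i = 0) :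
    ∃ (σ : ι → S) (k : ℕ) (d : Fin k → T) (τ : Fin k → ι → S),
      (∀ m, d m ∈ (maximalIdeal S ^ n).map (algebraMap S T)) ∧ (∀ m q, ∑ i, M q i * τ m i = 0) ∧
      (∀ q, ∑ i, M q i * σ i = 0) ∧ ∀ i, x i = algebraMap S T (σ i) + ∑ m, d m * algebraMap S T (τ m i) := by
  classical
  let f : (κ → S) →ₗ[S] (ι → S) := Fintype.linearCombination S M
  let xl : (ι → S) →ₗ[S] T := Fintype.linearCombination S x
  have hcomp : xl ∘ₗ f = 0 := by
    refine LinearMap.pi_ext' fun q => LinearMap.ext_ring ?_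
    simp only [LinearMap.comp_apply, LinearMap.zero_apply, f, LinearMap.coe_single]
    rw [Fintype.linearCombination_apply_single, one_smul]
    simp only [xl, Fintype.linearCombination_apply, Algebra.smul_def]
    exact h q
  obtain ⟨k, a, y, hya, haf⟩ := Module.Flat.exists_factorization_of_comp_eq_zero_of_free hcomp
  let τ : Fin k → ι → S := fun m i => a (Pi.single i 1) m
  let c : Fin k → T := fun m => y (Finsupp.single m 1)
  have hx : ∀ i, x i = ∑ m, c m * algebraMap S T (τ m i) := fun i => by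
    have h1 : x i = y (a (Pi.single i 1)) := by
      rw [← LinearMap.comp_apply, ← hya]
      simp [xl, Fintype.linearCombination_apply_single]
    rw [h1]
    conv_lhs => rw [← Finsupp.univ_sum_single (a (Pi.single i 1)), map_sum]
    refine Finset.sum_congr rfl fun m _ => ?_
    rw [← mul_one ((a (Pi.single i 1)) m), ← smul_eq_mul, ← Finsupp.smul_single, map_smul, Algebra.smul_def,
      mul_comm]
  have hτ : ∀ m q, ∑ i, M q i * τ m i = 0 := fun m q => by
    have h1 : a (f (Pi.single q 1)) = 0 := LinearMap.congr_fun haf _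
    have h2 : f (Pi.single q 1) = ∑ i, M q i • (Pi.single i (1 : S) : ι → S) := by
      ext i'
      simp [f, Fintype.linearCombination_apply_single, Pi.single_apply]
    rw [h2, map_sum] at h1
    simpa [τ] using congr($h1 m)
  choose s hs using fun m => hd n (c m)
  refine ⟨fun i => ∑ m, s m * τ m i, k, fun m => c m - algebraMap S T (s m), τ, hs, hτ, fun q => ?_, fun i => ?_⟩
  · simp_rw [Finset.mul_sum]
    rw [Finset.sum_comm]
    refine Finset.sum_eq_zero fun m _ => ?_
    simp_rw [mul_left_comm _ (s m), ← Finset.mul_sum, hτ m q, mul_zero]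
  · rw [hx i, map_sum, ← Finset.sum_add_distrib]
    exact Finset.sum_congr rfl fun m _ => by rw [map_mul]; ring

variable [IsNoetherianRing S] [Module.FaithfullyFlat S T]

/-- An element whose multiples by a power of the maximal ideal come from `S` comes from `S`. -/
theorem mem_range_of_forall_mul_mem (hd : Dense S T) {g : ℕ} (r : Fin g → S) {n : ℕ}
    (hr : maximalIdeal S ^ n ≤ Ideal.span (Set.range r)) (hr' : Ideal.span (Set.range r) ≤ maximalIdeal S)
    (t : T) (w : Fin g → S) (h : ∀ i, algebraMap S T (r i) * t = algebraMap S T (w i)) :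
    t ∈ Set.range (algebraMap S T) := by
  classical
  have hinj : Function.Injective (algebraMap S T) := FaithfulSMul.algebraMap_injective S T
  have hmap : (maximalIdeal S ^ n).map (algebraMap S T) ≤ Ideal.span (Set.range fun i => algebraMap S T (r i)) := by
    refine (Ideal.map_mono hr).trans ?_
    rw [Ideal.map_span, ← Set.range_comp]
    rfl
  -- a multiple close to `1` reduces to an element killed by all `r i`
  obtain ⟨σ, k, d, τ, hdm, hτ, hσ, hx⟩ := exists_approx (ι := ULift.{u} (Fin 2)) (κ := ULift.{u} (Fin g)) hd (n + 1)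
    (fun q i => if i.down = 0 then r q.down else - w q.down) (fun i => if i.down = 0 then t else 1) (fun q => by
      rw [← Equiv.ulift.symm.sum_comp, Fin.sum_univ_two]
      simp [h q.down])
  have hu : IsUnit (σ ⟨1⟩) := by
    by_contra hu
    have h1 : (1 : T) ∈ maximalIdeal T := by
      have hx1 := hx ⟨1⟩
      simp only [Fin.one_eq_zero_iff, OfNat.ofNat_ne_one, if_false] at hx1
      rw [hx1, ← Dense.map_maximalIdeal hd]
      refine add_mem (Ideal.mem_map_of_mem _ ((mem_maximalIdeal _).mpr hu)) (sum_mem fun m _ => ?_)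
      exact Ideal.mul_mem_right _ _ (Ideal.map_mono (Ideal.pow_le_self (Nat.succ_ne_zero n)) (hdm m))
    exact (maximalIdeal.isMaximal T).ne_top ((Ideal.eq_top_iff_one _).mpr h1)
  obtain ⟨u, hu⟩ := hu
  set v : S := σ ⟨0⟩ * ↑u⁻¹ with hv
  have hz : ∀ i, algebraMap S T (r i) * (t - algebraMap S T v) = 0 := fun i => by
    have h2 := hσ ⟨i⟩
    rw [← Equiv.ulift.symm.sum_comp, Fin.sum_univ_two] at h2
    simp only [Equiv.ulift_symm_apply, if_true, Fin.one_eq_zero_iff, OfNat.ofNat_ne_one, if_false] at h2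
    rw [mul_sub, h i, ← map_mul, ← map_sub]
    have : w i - r i * v = -((↑u⁻¹ : S) * (r i * σ ⟨0⟩ + -w i * σ ⟨1⟩)) := by
      rw [hv, ← hu]
      linear_combination (-(w i)) * u.inv_mul
    rw [this, h2, mul_zero, neg_zero, map_zero]
  obtain ⟨σ', k', d', τ', hdm', hτ', -, hx'⟩ := exists_approx (ι := ULift.{u} (Fin 1)) (κ := ULift.{u} (Fin g)) hd n
    (fun q _ => r q.down) (fun _ => t - algebraMap S T v) (fun q => by
      rw [← Equiv.ulift.symm.sum_comp, Fin.sum_univ_one]
      simpa using hz q.down)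
  refine ⟨v + σ' ⟨0⟩, ?_⟩
  have hx0 := hx' ⟨0⟩
  have : ∀ m, d' m * algebraMap S T (τ' m ⟨0⟩) = 0 := fun m => by
    obtain ⟨c, hc⟩ := Ideal.mem_span_range_iff_exists_fun.mp (hmap (hdm' m))
    rw [← hc, Finset.sum_mul]
    refine Finset.sum_eq_zero fun i _ => ?_
    have h3 := hτ' m ⟨i⟩
    rw [← Equiv.ulift.symm.sum_comp, Fin.sum_univ_one] at h3
    rw [mul_assoc, ← map_mul, show r i * τ' m ⟨0⟩ = 0 from h3, map_zero, mul_zero]
  rw [Finset.sum_eq_zero fun m _ => this m, add_zero] at hx0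
  rw [map_add, ← hx0, add_sub_cancel]

/-- The contractions of the two halves of a splitting of the punctured spectrum split it as well. -/
theorem le_comap_sup_comap (hd : Dense S T) {k : ℕ} (hk : k ≠ 0) (I J : Ideal T) (hI : I ≠ ⊤) (hJ : J ≠ ⊤)
    (hsup : (maximalIdeal S ^ k).map (algebraMap S T) ≤ I ⊔ J)
    (hkill : (maximalIdeal S ^ k).map (algebraMap S T) * (I ⊓ J) = ⊥) :
    maximalIdeal S ^ k ≤ I.comap (algebraMap S T) ⊔ J.comap (algebraMap S T) := by
  classical
  set A := algebraMap S T with hA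
  have hinj : Function.Injective A := FaithfulSMul.algebraMap_injective S T
  have hmT := hd.map_maximalIdeal
  obtain ⟨g, r, hr⟩ := Submodule.fg_iff_exists_fin_generating_family.mp (IsNoetherian.noetherian (maximalIdeal S ^ k))
  change Ideal.span (Set.range r) = maximalIdeal S ^ k at hr
  have hrmem : ∀ i, r i ∈ maximalIdeal S ^ k := fun i => hr ▸ Ideal.subset_span ⟨i, rfl⟩
  have hrA : ∀ i, A (r i) ∈ (maximalIdeal S ^ k).map A := fun i => Ideal.mem_map_of_mem _ (hrmem i)
  have hzero : ∀ i z, z ∈ I → z ∈ J → A (r i) * z = 0 := fun i z h1 h2 => by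
    simpa [hkill] using Ideal.mul_mem_mul (hrA i) (Submodule.mem_inf.mpr ⟨h1, h2⟩)
  -- the idempotent times `r i`
  have hsplit : ∀ i, ∃ t, t ∈ J ∧ t - A (r i) ∈ I := fun i => by
    obtain ⟨a, ha, b, hb, hab⟩ := Submodule.mem_sup.mp (hsup (hrA i))
    exact ⟨b, hb, by rw [← hab]; simpa using neg_mem ha⟩
  choose t htJ htI using hsplit
  obtain ⟨σ, K, d, τ, hdm, hτ, -, ht⟩ := exists_approx (ι := ULift.{u} (Fin g))
    (κ := ULift.{u} (Fin g × Fin g × Fin g)) hd (k + k)
    (fun q i => r q.down.1 * ((if i.down = q.down.2.1 then r q.down.2.2 else 0) -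
      (if i.down = q.down.2.2 then r q.down.2.1 else 0)))
    (fun i => t i.down) (fun q => by
      obtain ⟨⟨l, i, j⟩⟩ := q
      rw [← Equiv.ulift.symm.sum_comp]
      have e : ∑ x : Fin g, A (r l * ((if x = i then r j else 0) - (if x = j then r i else 0))) * t x =
          A (r l) * (A (r j) * t i - A (r i) * t j) := by
        simp only [mul_sub, map_sub, sub_mul, Finset.sum_sub_distrib, mul_ite, mul_zero, apply_ite A, map_zero, map_mul,
          ite_mul, zero_mul, Finset.sum_ite_eq', Finset.mem_univ, if_true]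
        ring
      refine e.trans (hzero _ _ ?_ (sub_mem (J.mul_mem_left _ (htJ i)) (J.mul_mem_left _ (htJ j))))
      have : A (r j) * t i - A (r i) * t j = A (r j) * (t i - A (r i)) - A (r i) * (t j - A (r j)) := by ring
      rw [this]
      exact sub_mem (I.mul_mem_left _ (htI i)) (I.mul_mem_left _ (htI j)))
  have hτ' : ∀ m l i j, r l * r j * τ m ⟨i⟩ = r l * r i * τ m ⟨j⟩ := fun m l i j => by
    have h1 := hτ m ⟨⟨l, i, j⟩⟩
    rw [← Equiv.ulift.symm.sum_comp] at h1
    simp [mul_sub, sub_mul, Finset.sum_sub_distrib, ite_mul] at h1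
    exact sub_eq_zero.mp h1
  -- the error is multiplication by one element
  have hspan : (maximalIdeal S ^ (k + k)).map A ≤
      Ideal.span (Set.range fun p : Fin g × Fin g => A (r p.1 * r p.2)) := by
    rw [pow_add, ← hr, Ideal.span_mul_span', Ideal.map_span]
    refine Ideal.span_mono ?_
    rintro _ ⟨_, ⟨_, ⟨i, rfl⟩, _, ⟨j, rfl⟩, rfl⟩, rfl⟩
    exact ⟨(i, j), rfl⟩
  choose α hα using fun m => Ideal.mem_span_range_iff_exists_fun.mp (hspan (hdm m))
  set x : T := ∑ m, ∑ p : Fin g × Fin g, α m p * (A (r p.1) * A (τ m ⟨p.2⟩)) with hxdef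
  have hσ : ∀ i, t i = A (σ ⟨i⟩) + A (r i) * x := fun i => by
    refine (ht ⟨i⟩).trans (congrArg _ ?_)
    rw [hxdef, Finset.mul_sum]
    refine Finset.sum_congr rfl fun m _ => ?_
    rw [← hα m, Finset.sum_mul, Finset.mul_sum]
    refine Finset.sum_congr rfl fun p _ => ?_
    rw [mul_assoc, ← map_mul, hτ' m p.1 i p.2, mul_assoc, map_mul, map_mul]
    ring
  set y : T := 1 - x
  set z : T := -x
  have hσI : ∀ i, A (σ ⟨i⟩) - A (r i) * y ∈ I := fun i => by
    have : A (σ ⟨i⟩) - A (r i) * y = t i - A (r i) := by rw [hσ i]; ring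
    exact this ▸ htI i
  have hσJ : ∀ i, A (σ ⟨i⟩) - A (r i) * z ∈ J := fun i => by
    have : A (σ ⟨i⟩) - A (r i) * z = t i := by rw [hσ i]; ring
    exact this ▸ htJ i
  -- a quadratic equation over `S`
  obtain ⟨sx, hsx⟩ := hd k x
  rw [← hr, Ideal.map_span, ← Set.range_comp] at hsx
  obtain ⟨β, hβ⟩ := Ideal.mem_span_range_iff_exists_fun.mp hsx
  simp only [Function.comp_apply] at hβ
  set b₀ : S := 1 - 2 * sx
  set c' : T := x - x ^ 2 - 2 * ∑ i, β i * A (σ ⟨i⟩)
  have hquad : ∀ (K : Ideal T) (e : T), e ^ 2 - (1 - 2 * x) * e = x - x ^ 2 →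
      (∀ i, A (σ ⟨i⟩) - A (r i) * e ∈ K) → e ^ 2 - A b₀ * e - c' ∈ K := fun K e he hKe => by
    have hb : A b₀ = 1 - 2 * A sx := by simp [b₀, map_ofNat]
    have : e ^ 2 - A b₀ * e - c' = 2 * ∑ i, β i * (A (σ ⟨i⟩) - A (r i) * e) := by
      simp only [mul_sub, Finset.sum_sub_distrib, c', hb]
      rw [show ∑ i, β i * (A (r i) * e) = (∑ i, β i * A (r i)) * e by
        rw [Finset.sum_mul]; exact Finset.sum_congr rfl fun i _ => by ring, hβ]
      linear_combination he
    rw [this]
    exact K.mul_mem_left _ (sum_mem fun i _ => K.mul_mem_left _ (hKe i))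
  have hyI : y ^ 2 - A b₀ * y - c' ∈ I := hquad I y (by ring) hσI
  have hzJ : z ^ 2 - A b₀ * z - c' ∈ J := hquad J z (by ring) hσJ
  have hc' : c' ∈ Set.range A := by
    let e := (Fintype.equivFin (Fin g × Fin g × Fin g)).symm
    refine mem_range_of_forall_mul_mem hd (fun q => r (e q).1 * (r (e q).2.1 * r (e q).2.2)) (n := k + (k + k))
      ?_ ?_ c' (fun q => r (e q).1 * (σ ⟨(e q).2.1⟩ * σ ⟨(e q).2.2⟩ - b₀ * (r (e q).2.2 * σ ⟨(e q).2.1⟩))) fun q => ?_
    · rw [pow_add, pow_add, ← hr, Ideal.span_mul_span', Ideal.span_mul_span']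
      refine Ideal.span_mono ?_
      rintro _ ⟨_, ⟨l, rfl⟩, _, ⟨_, ⟨i, rfl⟩, _, ⟨j, rfl⟩, rfl⟩, rfl⟩
      exact ⟨e.symm (l, i, j), by simp⟩
    · rw [Ideal.span_le]
      rintro _ ⟨q, rfl⟩
      exact Ideal.mul_mem_right _ _ (Ideal.pow_le_self hk (hrmem _))
    · set l := (e q).1
      set i := (e q).2.1
      set j := (e q).2.2
      have key : ∀ (K : Ideal T) (w : T), (∀ i, A (σ ⟨i⟩) - A (r i) * w ∈ K) → w ^ 2 - A b₀ * w - c' ∈ K →
          A (r i) * A (r j) * c' - (A (σ ⟨i⟩) * A (σ ⟨j⟩) - A b₀ * (A (r j) * A (σ ⟨i⟩))) ∈ K := fun K w h1 h2 => by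
        have : A (r i) * A (r j) * c' - (A (σ ⟨i⟩) * A (σ ⟨j⟩) - A b₀ * (A (r j) * A (σ ⟨i⟩))) =
            -(A (r i) * A (r j)) * (w ^ 2 - A b₀ * w - c')
              + ((A b₀ * A (r j) - A (σ ⟨j⟩)) * (A (σ ⟨i⟩) - A (r i) * w))
              - A (r i) * w * (A (σ ⟨j⟩) - A (r j) * w) := by ring
        rw [this]
        exact sub_mem (add_mem (K.mul_mem_left _ h2) (K.mul_mem_left _ (h1 i))) (K.mul_mem_left _ (h1 j))
      have := hzero l _ (key I y hσI hyI) (key J z hσJ hzJ)
      simp only [map_mul, map_sub, ← hA]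
      linear_combination this
  obtain ⟨c₀, hc₀⟩ := hc'
  set P : S[X] := X ^ 2 - C b₀ * X - C c₀ with hP
  have hPm : P.Monic := by rw [hP]; monicity!
  -- lifting the roots
  have hroot : ∀ (K : Ideal T) (e : T) (a₀ : S), K ≠ ⊤ → e - A a₀ ∈ maximalIdeal T →
      IsUnit (2 * a₀ - b₀) → e ^ 2 - A b₀ * e - c' ∈ K → ∃ ρ : S, ρ - a₀ ∈ maximalIdeal S ∧ e - A ρ ∈ K := by
    intro K e a₀ hK hea hu he
    have hm : P.eval a₀ ∈ maximalIdeal S := by
      rw [← (maximalIdeal S).comap_map_eq_self_of_faithfullyFlat (B := T), Ideal.mem_comap, ← hA, hmT]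
      have : A (P.eval a₀) = (e ^ 2 - A b₀ * e - c') - (e - A a₀) * (e + A a₀ - A b₀) := by
        simp [hP, ← hc₀]
        ring
      rw [this]
      exact sub_mem (le_maximalIdeal hK he) (Ideal.mul_mem_right _ _ hea)
    obtain ⟨ρ, hρ, hρa⟩ := HenselianLocalRing.is_henselian P hPm a₀ hm (by simpa [hP, two_mul, one_add_one_eq_two] using hu)
    refine ⟨ρ, hρa, ?_⟩
    have hρ' : ρ ^ 2 - b₀ * ρ - c₀ = 0 := by simpa [hP] using hρ
    have hρA := congrArg A hρ'
    simp only [map_sub, map_mul, map_pow, map_zero, hc₀] at hρA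
    have hunit : IsUnit (e + A ρ - A b₀) := by
      by_contra h
      have hin : A (2 * a₀ - b₀) ∈ maximalIdeal T := by
        have : A (2 * a₀ - b₀) = (e + A ρ - A b₀) - (e - A a₀) - A (ρ - a₀) := by simp [map_ofNat]; ring
        rw [this, ← hmT]
        refine sub_mem (sub_mem ?_ (hmT ▸ hea)) (Ideal.mem_map_of_mem _ hρa)
        rw [hmT]; exact (mem_maximalIdeal _).mpr h
      exact hin (hu.map A)
    refine (Ideal.unit_mul_mem_iff_mem K hunit).mp ?_
    have : (e + A ρ - A b₀) * (e - A ρ) = e ^ 2 - A b₀ * e - c' := by linear_combination -hρA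
    exact this ▸ he
  have hxs : x - A sx ∈ maximalIdeal T := by
    rw [← hmT, ← hβ]
    exact sum_mem fun i _ => Ideal.mul_mem_left _ _ (Ideal.mem_map_of_mem _ (Ideal.pow_le_self hk (hrmem i)))
  obtain ⟨ρ₁, hρ₁, hyρ⟩ := hroot I y (1 - sx) hI
    (by simpa [y] using neg_mem hxs) (by simp [b₀]; ring_nf; exact isUnit_one) hyI
  obtain ⟨ρ₀, hρ₀, hzρ⟩ := hroot J z (-sx) hJ
    (by simpa [z, sub_eq_add_neg, add_comm] using neg_mem hxs) (by simp [b₀]; ring_nf; exact isUnit_one.neg) hzJ
  have hdiff : IsUnit (ρ₁ - ρ₀) := by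
    rcases IsLocalRing.isUnit_or_isUnit_one_sub_self (ρ₁ - ρ₀) with h | h
    · exact h
    · exfalso
      have : 1 - (ρ₁ - ρ₀) = -(ρ₁ - (1 - sx)) + (ρ₀ - -sx) := by ring
      exact (mem_maximalIdeal _).mp (this ▸ add_mem (neg_mem hρ₁) hρ₀) h
  rw [← hr, Ideal.span_le]
  rintro _ ⟨i, rfl⟩
  refine (Ideal.unit_mul_mem_iff_mem _ hdiff).mp ?_
  refine Submodule.mem_sup.mpr ⟨-(σ ⟨i⟩ - r i * ρ₁), neg_mem ?_, σ ⟨i⟩ - r i * ρ₀, ?_, by ring⟩
  · rw [Ideal.mem_comap, map_sub, map_mul]
    have : A (σ ⟨i⟩) - A (r i) * A ρ₁ = (A (σ ⟨i⟩) - A (r i) * y) + A (r i) * (y - A ρ₁) := by ring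
    exact this ▸ add_mem (hσI i) (I.mul_mem_left _ hyρ)
  · rw [Ideal.mem_comap, map_sub, map_mul]
    have : A (σ ⟨i⟩) - A (r i) * A ρ₀ = (A (σ ⟨i⟩) - A (r i) * z) + A (r i) * (z - A ρ₀) := by ring
    exact this ▸ add_mem (hσJ i) (J.mul_mem_left _ hzρ)

end Groth.Agent.Punctured93
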