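import Groth.Agent.Punctured93.Branches
import Groth.Agent.BrnchLib.HenzStrict
import Groth.Agent.FlatLoc6.GeomProp
import Groth.Agent.S2670

/-!
# Branches of a completion with geometrically normal formal fibres
-/

set_option autoImplicit false
set_option linter.style.haveILetI false

universe u

namespace Groth.Agent.Punctured93

open IsLocalRing TensorProduct

/-- Normality can be checked at maximal ideals. -/
theorem isNormalRing_of_isMaximal (R : Type u) [CommRing R]
    (h : ∀ m : Ideal R, ∀ [m.IsMaximal], IsDomain (Localization.AtPrime m) ∧ IsIntegrallyClosed (Localization.AtPrime m)) :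
    EGA4.IsNormalRing R := by
  intro p hp
  obtain ⟨m, hm, hpm⟩ := Ideal.exists_le_maximal p hp.ne_top
  haveI := hm
  obtain ⟨_, _⟩ := h m
  have hle : m.primeCompl ≤ p.primeCompl := fun x hx hxp => hx (hpm hxp)
  letI : Algebra (Localization.AtPrime m) (Localization.AtPrime p) :=
    IsLocalization.localizationAlgebraOfSubmonoidLe _ _ m.primeCompl p.primeCompl hle
  haveI : IsScalarTower R (Localization.AtPrime m) (Localization.AtPrime p) :=
    IsLocalization.localization_isScalarTower_of_submonoid_le _ _ m.primeCompl p.primeCompl hle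
  haveI : IsLocalization (p.primeCompl.map (algebraMap R (Localization.AtPrime m))) (Localization.AtPrime p) :=
    IsLocalization.isLocalization_of_submonoid_le _ _ m.primeCompl p.primeCompl hle
  have h0 : p.primeCompl.map (algebraMap R (Localization.AtPrime m)) ≤ nonZeroDivisors (Localization.AtPrime m) := by
    rintro _ ⟨x, hx, rfl⟩
    refine mem_nonZeroDivisors_of_ne_zero fun h0 => ?_
    obtain ⟨s, hs⟩ := (IsLocalization.map_eq_zero_iff m.primeCompl (Localization.AtPrime m) x).mp h0
    rcases hp.mem_or_mem (hs ▸ p.zero_mem : (s : R) * x ∈ p) with h' | h'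
    · exact s.2 (hpm h')
    · exact hx h'
  exact ⟨IsLocalization.isDomain_of_le_nonZeroDivisors (S := Localization.AtPrime p) h0,
    isIntegrallyClosed_of_isLocalization _ _ h0⟩

/-- Points of an integral algebra over a field point of the base. -/
theorem nonempty_sigma_equiv {R B : Type u} [CommRing R] [CommRing B] [Algebra R B] [Algebra.IsIntegral R B]
    {K : Type u} [Field K] (j : R →+* K) (hj : (RingHom.ker j).IsMaximal) :
    Nonempty ((Σ m : MaximalSpectrum B, {σ : B ⧸ m.asIdeal →+* K // σ.comp ((Ideal.Quotient.mk m.asIdeal).comp (algebraMap R B)) = j}) ≃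
      {φ : B →+* K // φ.comp (algebraMap R B) = j}) := by
  refine ⟨Equiv.ofBijective (fun x => ⟨x.2.1.comp (Ideal.Quotient.mk x.1.asIdeal), by rw [RingHom.comp_assoc, x.2.2]⟩)
    ⟨?_, ?_⟩⟩
  · rintro ⟨m, σ⟩ ⟨m', σ'⟩ h
    have h0 : σ.1.comp (Ideal.Quotient.mk m.asIdeal) = σ'.1.comp (Ideal.Quotient.mk m'.asIdeal) := congrArg Subtype.val h
    have hk : ∀ (m : MaximalSpectrum B) (σ : B ⧸ m.asIdeal →+* K), RingHom.ker (σ.comp (Ideal.Quotient.mk m.asIdeal)) = m.asIdeal :=
      fun m σ => by
        letI := Ideal.Quotient.field m.asIdeal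
        ext x
        rw [RingHom.mem_ker, RingHom.comp_apply, map_eq_zero, Ideal.Quotient.eq_zero_iff_mem]
    obtain rfl : m = m' := MaximalSpectrum.ext ((hk m σ.1).symm.trans ((congrArg RingHom.ker h0).trans (hk m' σ'.1)))
    exact congrArg (Sigma.mk m) (Subtype.ext (Ideal.Quotient.ringHom_ext h0))
  · rintro ⟨φ, hφ⟩
    haveI : (RingHom.ker φ).IsMaximal := by
      haveI : (RingHom.ker φ).IsPrime := RingHom.ker_isPrime φ
      refine Ideal.isMaximal_of_isIntegral_of_isMaximal_comap (R := R) _ ?_
      rwa [RingHom.comap_ker, hφ]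
    exact ⟨⟨⟨RingHom.ker φ, inferInstance⟩, Ideal.Quotient.lift _ φ (fun a ha => RingHom.mem_ker.mp ha),
      by rw [← RingHom.comp_assoc, Ideal.Quotient.lift_comp_mk, hφ]⟩, Subtype.ext (Ideal.Quotient.lift_comp_mk _ _ _)⟩

section

set_option synthInstance.maxHeartbeats 400000
set_option maxHeartbeats 800000

variable (A : Type u) [CommRing A] [IsLocalRing A] [IsNoetherianRing A]

local notation "Ah" => AdicCompletion (maximalIdeal A) A
local notation "N" => CAlg2.normRed A

/-- A completed normalization. -/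
abbrev NormCpl : Type u := AdicCompletion (maximalIdeal A) A ⊗[A] CAlg2.normRed A

theorem residue_bijective_cpl :
    Function.Bijective (algebraMap (ResidueField A) (ResidueField Ah)) := by
  refine ⟨(algebraMap (ResidueField A) (ResidueField Ah)).injective, fun x => ?_⟩
  obtain ⟨y, rfl⟩ := residue_surjective x
  obtain ⟨a, ha⟩ := Submodule.mkQ_surjective _ (AdicCompletion.eval (maximalIdeal A) A 1 y)
  refine ⟨residue A a, ?_⟩
  rw [ResidueField.algebraMap_residue]
  refine Ideal.Quotient.eq.mpr ?_
  rw [AdicCompletion.maximalIdeal_eq_map_of_fg (IsNoetherian.noetherian _)]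
  have h1 : algebraMap A Ah a - y ∈ (maximalIdeal A ^ 1 • ⊤ : Submodule A Ah) := by
    rw [AdicCompletion.pow_smul_top_eq_ker_eval (IsNoetherian.noetherian _), LinearMap.mem_ker, map_sub, ← ha,
      sub_eq_zero]
    exact AdicCompletion.eval_of _ _ 1 a
  rwa [Ideal.smul_top_eq_map, pow_one] at h1

theorem isDomain_normCpl (h : EGA4.HasGeomNormalFormalFibres A) (m : Ideal (NormCpl A)) [m.IsMaximal] :
    IsDomain (Localization.AtPrime m) ∧ IsIntegrallyClosed (Localization.AtPrime m) := by
  haveI : Finite (minimalPrimes A) := (minimalPrimes.finite_of_isNoetherianRing A).to_subtype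
  haveI := FormalFib6.isNoetherianRing_adicCompletion A (maximalIdeal A)
  exact S2670.result A Ah ⟨AdicCompletion.flat_of_isNoetherian (maximalIdeal A), h⟩ N
    (isNormalRing_of_isMaximal N fun m _ => BrnchLib.isDomain_normal_localization (BrnchLib.comps A) m) m

/-- Away from the minimal primes the normalization is the ring. -/
theorem exists_denominator (b : N) :
    ∃ a a₀ : A, (∀ p ∈ minimalPrimes A, a ∉ p) ∧ algebraMap A N a * b = algebraMap A N a₀ := by
  obtain ⟨⟨x, d⟩, hxd⟩ := IsLocalization.surj (nonZeroDivisors (CAlg2.red A)) (b : FractionRing (CAlg2.red A))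
  obtain ⟨a, ha⟩ := Ideal.Quotient.mk_surjective (d : CAlg2.red A)
  obtain ⟨a₀, rfl⟩ := Ideal.Quotient.mk_surjective x
  refine ⟨a, a₀, fun p hp hap => ?_, ?_⟩
  · haveI := hp.1.1
    have hker : RingHom.ker (Ideal.Quotient.mk (nilradical A)) ≤ p := by
      rw [Ideal.mk_ker]; exact nilradical_le_prime p
    have hmap : (p.map (Ideal.Quotient.mk (nilradical A))) ∈ minimalPrimes (CAlg2.red A) := by
      refine ⟨⟨Ideal.map_isPrime_of_surjective Ideal.Quotient.mk_surjective hker, bot_le⟩, fun q ⟨hq, _⟩ hle => ?_⟩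
      rw [Ideal.map_le_iff_le_comap]
      refine hp.2 ⟨hq.comap _, bot_le⟩ ((Ideal.comap_mono hle).trans ?_)
      rw [Ideal.comap_map_of_surjective _ Ideal.Quotient.mk_surjective, ← RingHom.ker_eq_comap_bot]
      exact sup_le le_rfl hker
    have hmem : (d : CAlg2.red A) ∈ p.map (Ideal.Quotient.mk (nilradical A)) := ha ▸ Ideal.mem_map_of_mem _ hap
    exact Set.disjoint_left.1 (Ideal.disjoint_nonZeroDivisors_of_mem_minimalPrimes hmap) hmem d.2
  · refine Subtype.ext ?_
    change algebraMap (CAlg2.red A) (FractionRing (CAlg2.red A)) (Ideal.Quotient.mk _ a) * _ =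
      algebraMap (CAlg2.red A) (FractionRing (CAlg2.red A)) (Ideal.Quotient.mk _ a₀)
    rw [ha, mul_comm]
    exact hxd

theorem exists_denominator_cpl (c : NormCpl A) :
    ∃ (a : A) (w : Ah), (∀ p ∈ minimalPrimes A, a ∉ p) ∧
      algebraMap A (NormCpl A) a * c = algebraMap Ah (NormCpl A) w := by
  induction c using TensorProduct.induction_on with
  | zero =>
    exact ⟨1, 0, fun p hp h => hp.1.1.ne_top ((Ideal.eq_top_iff_one p).mpr h), by simp⟩
  | tmul t b =>
    obtain ⟨a, a₀, ha, hab⟩ := exists_denominator A b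
    refine ⟨a, t * algebraMap A Ah a₀, ha, ?_⟩
    rw [← Algebra.smul_def, TensorProduct.smul_tmul', TensorProduct.smul_tmul, Algebra.smul_def, hab,
      Algebra.TensorProduct.algebraMap_apply, Algebra.algebraMap_self, RingHom.id_apply,
      Algebra.algebraMap_eq_smul_one (R := A) (A := N), TensorProduct.tmul_smul, TensorProduct.smul_tmul',
      Algebra.smul_def, mul_comm]
  | add x y hx hy =>
    obtain ⟨a, w, ha, h1⟩ := hx
    obtain ⟨a', w', ha', h2⟩ := hy
    refine ⟨a * a', algebraMap A Ah a' * w + algebraMap A Ah a * w',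
      fun p hp h => (hp.1.1.mem_or_mem h).elim (ha p hp) (ha' p hp), ?_⟩
    rw [map_add, map_mul, map_mul, map_mul, ← h1, ← h2, ← IsScalarTower.algebraMap_apply,
      ← IsScalarTower.algebraMap_apply]
    ring

theorem comap_minimalPrimes_of_prime {Q : Ideal Ah} (hQ : Q ∈ minimalPrimes Ah) :
    Q.comap (algebraMap A Ah) ∈ minimalPrimes A := by
  haveI : Module.FaithfullyFlat A Ah := FlatLoc6.faithfullyFlat_cpl A
  exact BrnchLib.comap_mem_minimalPrimes (algebraMap A Ah)
    (RingHom.faithfullyFlat_algebraMap_iff.mpr inferInstance) hQ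

theorem bijOn_normCpl :
    Set.BijOn (Ideal.comap (algebraMap Ah (NormCpl A))) (minimalPrimes (NormCpl A)) (minimalPrimes Ah) := by
  haveI : Module.Flat A Ah := AdicCompletion.flat_of_isNoetherian (maximalIdeal A)
  have hA : ∀ P ∈ minimalPrimes (NormCpl A), P.comap (algebraMap A (NormCpl A)) ∈ minimalPrimes A := by
    intro P hP
    haveI := hP.1.1
    haveI : Finite (minimalPrimes A) := (minimalPrimes.finite_of_isNoetherianRing A).to_subtype
    letI : Algebra N (NormCpl A) := (Algebra.TensorProduct.includeRight : N →ₐ[A] NormCpl A).toRingHom.toAlgebra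
    haveI : IsScalarTower A N (NormCpl A) := IsScalarTower.of_algebraMap_eq fun a =>
      ((Algebra.TensorProduct.includeRight : N →ₐ[A] NormCpl A).commutes a).symm
    haveI : Module.Flat N (N ⊗[A] Ah) := Module.Flat.baseChange A N Ah
    let ec : N ⊗[A] Ah ≃ₗ[N] NormCpl A :=
      { (Algebra.TensorProduct.comm A N Ah).toRingEquiv.toAddEquiv with
        map_smul' := fun n x => by
          change Algebra.TensorProduct.comm A N Ah (n • x) = (1 ⊗ₜ[A] n) * Algebra.TensorProduct.comm A N Ah x
          induction x using TensorProduct.induction_on with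
          | zero => simp
          | tmul b t => simp [TensorProduct.smul_tmul']
          | add x y hx hy => simp [smul_add, mul_add, hx, hy] }
    haveI : Module.Flat N (NormCpl A) := Module.Flat.of_linearEquiv ec.symm
    rw [IsScalarTower.algebraMap_eq A N (NormCpl A), ← Ideal.comap_comap]
    refine (BrnchLib.bijOn_normRed A).mapsTo ⟨⟨inferInstance, bot_le⟩, fun q ⟨hq, _⟩ hle => ?_⟩
    haveI := hq
    haveI : P.LiesOver (P.comap (algebraMap N (NormCpl A))) := ⟨rfl⟩
    obtain ⟨P', hP'le, hP', ho⟩ := Ideal.exists_ideal_le_liesOver_of_le (p := q) (q := P.comap (algebraMap N (NormCpl A))) P hle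
    rw [ho.over]
    exact Ideal.comap_mono (hP.2 ⟨hP', bot_le⟩ hP'le)
  have hA' : ∀ Q ∈ minimalPrimes Ah, ∀ P : Ideal (NormCpl A), P.comap (algebraMap Ah (NormCpl A)) = Q →
      P.comap (algebraMap A (NormCpl A)) ∈ minimalPrimes A := fun Q hQ P h => by
    rw [IsScalarTower.algebraMap_eq A Ah (NormCpl A), ← Ideal.comap_comap, h]
    exact comap_minimalPrimes_of_prime A hQ
  have hle : ∀ P₁ P₂ : Ideal (NormCpl A), P₂.IsPrime → P₂.comap (algebraMap A (NormCpl A)) ∈ minimalPrimes A →
      P₁.comap (algebraMap Ah (NormCpl A)) ≤ P₂.comap (algebraMap Ah (NormCpl A)) → P₁ ≤ P₂ := by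
    intro P₁ P₂ hP₂ hmin h c hc
    obtain ⟨a, w, ha, hac⟩ := exists_denominator_cpl A c
    have hw : w ∈ P₁.comap (algebraMap Ah (NormCpl A)) := by
      rw [Ideal.mem_comap, ← hac]; exact P₁.mul_mem_left _ hc
    have h2 : algebraMap A (NormCpl A) a * c ∈ P₂ := hac ▸ h hw
    exact (hP₂.mem_or_mem h2).resolve_left fun h' => ha _ hmin h'
  have hker : RingHom.ker (algebraMap Ah (NormCpl A)) ≤ nilradical Ah := by
    haveI := FormalFib6.isNoetherianRing_adicCompletion A (maximalIdeal A)
    intro x hx
    rw [nilradical_eq_sInf, Ideal.mem_sInf]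
    intro p (hp : p.IsPrime)
    haveI := hp
    obtain ⟨Q, hQ, hQp⟩ := Ideal.exists_minimalPrimes_le (I := (⊥ : Ideal Ah)) (J := p) bot_le
    haveI := hQ.1.1
    refine hQp ?_
    have hnil : ∀ z ∈ (nilradical A).map (algebraMap A Ah), z ∈ Q := fun z hz =>
      (Ideal.map_le_iff_le_comap.mpr (nilradical_le_prime (Q.comap (algebraMap A Ah)))) hz
    refine hnil x ?_
    have hexact : Function.Exact ((nilradical A).subtype) (Algebra.linearMap A N) := by
      refine LinearMap.exact_iff.mpr (SetLike.ext fun a => ?_)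
      rw [Submodule.range_subtype, LinearMap.mem_ker, Algebra.linearMap_apply,
        IsScalarTower.algebraMap_apply A (CAlg2.red A) N,
        map_eq_zero_iff _ (fun u v h => IsFractionRing.injective (CAlg2.red A) (FractionRing (CAlg2.red A)) (congrArg Subtype.val h))]
      exact Ideal.Quotient.eq_zero_iff_mem
    have h1 := Module.Flat.lTensor_exact Ah hexact (x ⊗ₜ[A] (1 : A))
    have h0 : LinearMap.lTensor Ah (Algebra.linearMap A N) (x ⊗ₜ[A] (1 : A)) = 0 := by
      rw [LinearMap.lTensor_tmul, Algebra.linearMap_apply, map_one]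
      exact hx
    obtain ⟨y, hy⟩ := h1.mp h0
    have hy' := congrArg (TensorProduct.rid A Ah) hy
    rw [TensorProduct.rid_tmul, one_smul] at hy'
    rw [← hy']
    clear hy hy' h0 h1 hx
    induction y using TensorProduct.induction_on with
    | zero => simp
    | tmul t n =>
      rw [LinearMap.lTensor_tmul, TensorProduct.rid_tmul, Algebra.smul_def]
      exact Ideal.mul_mem_right _ _ (Ideal.mem_map_of_mem _ n.2)
    | add y z hy hz => rw [map_add, map_add]; exact add_mem hy hz
  have hover : ∀ Q : Ideal Ah, Q.IsPrime → ∃ P : Ideal (NormCpl A), P.IsPrime ∧ P.comap (algebraMap Ah (NormCpl A)) = Q := by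
    intro Q hQ
    haveI := hQ
    obtain ⟨P, -, hP, hPQ⟩ := Ideal.exists_ideal_over_prime_of_isIntegral Q (⊥ : Ideal (NormCpl A))
      (by rw [← RingHom.ker_eq_comap_bot]; exact hker.trans (nilradical_le_prime Q))
    exact ⟨P, hP, hPQ⟩
  refine ⟨fun P hP => ⟨⟨hP.1.1.comap _, bot_le⟩, fun Q ⟨hQ, _⟩ hQP => ?_⟩, fun P₁ h₁ P₂ h₂ he => ?_, fun Q hQ => ?_⟩
  · haveI := hQ
    obtain ⟨Q₀, hQ₀, hQ₀Q⟩ := Ideal.exists_minimalPrimes_le (I := (⊥ : Ideal Ah)) (J := Q) bot_le
    obtain ⟨P', hP', hP'Q⟩ := hover Q₀ hQ₀.1.1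
    haveI := hP.1.1
    have hP'P : P' ≤ P := hle P' P hP.1.1 (hA P hP) (hP'Q.le.trans (hQ₀Q.trans hQP))
    exact ((Ideal.comap_mono (hP.2 ⟨hP', bot_le⟩ hP'P)).trans hP'Q.le).trans hQ₀Q
  · exact le_antisymm (hle _ _ h₂.1.1 (hA _ h₂) he.le) (hle _ _ h₁.1.1 (hA _ h₁) he.ge)
  · obtain ⟨P, hP, hPQ⟩ := hover Q hQ.1.1
    haveI := hP
    obtain ⟨P₀, hP₀, hP₀P⟩ := Ideal.exists_minimalPrimes_le (I := (⊥ : Ideal (NormCpl A))) (J := P) bot_le
    exact ⟨P₀, hP₀, le_antisymm ((Ideal.comap_mono hP₀P).trans hPQ.le)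
      (hQ.2 ⟨hP₀.1.1.comap _, bot_le⟩ ((Ideal.comap_mono hP₀P).trans hPQ.le))⟩

theorem birational_normCpl :
    ∀ P ∈ minimalPrimes (NormCpl A), ∀ c : NormCpl A, ∃ w w₀ : Ah, algebraMap Ah (NormCpl A) w ∉ P ∧
      algebraMap Ah (NormCpl A) w * c - algebraMap Ah _ w₀ ∈ P := by
  intro P hP c
  obtain ⟨a, w, ha, hac⟩ := exists_denominator_cpl A c
  refine ⟨algebraMap A Ah a, w, ?_, ?_⟩
  · rw [← IsScalarTower.algebraMap_apply]
    intro hmem
    have h1 := (bijOn_normCpl A).mapsTo hP
    have h2 := comap_minimalPrimes_of_prime A h1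
    refine ha _ h2 ?_
    rwa [Ideal.mem_comap, Ideal.mem_comap, ← IsScalarTower.algebraMap_apply]
  · rw [← IsScalarTower.algebraMap_apply, hac, sub_self]
    exact zero_mem _

/-- Geometrically normal formal fibres: the branch counts do not change under completion. -/
theorem numGeomBranches_cpl (h : EGA4.HasGeomNormalFormalFibres A) :
    Brnch.numGeomBranches Ah = Brnch.numGeomBranches A := by
  classical
  haveI := FormalFib6.isNoetherianRing_adicCompletion A (maximalIdeal A)
  haveI : Finite (minimalPrimes A) := (minimalPrimes.finite_of_isNoetherianRing A).to_subtype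
  obtain ⟨T, _, _, _, _, hT⟩ := S0537.result Ah
  haveI : HenselianLocalRing T := hT.henselian
  haveI : IsSepClosed (ResidueField T) := hT.isSepClosure.sep_closed
  haveI : Algebra.IsSeparable (ResidueField Ah) (ResidueField T) := hT.isSepClosure.separable
  rw [← BrnchLib.card_minimalPrimes_strictHenselization Ah T]
  unfold Brnch.numGeomBranches
  rw [if_pos (minimalPrimes.finite_of_isNoetherianRing A)]
  let K := AlgebraicClosure (ResidueField A)
  let e₀ := RingEquiv.ofBijective _ (residue_bijective_cpl A)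
  let r : ResidueField Ah →+* K := (algebraMap (ResidueField A) K).comp e₀.symm.toRingHom
  letI : Algebra (ResidueField Ah) K := r.toAlgebra
  let j : ResidueField T →ₐ[ResidueField Ah] K := IsAlgClosed.lift
  have hj : (j.toRingHom.comp (residue T)).comp (algebraMap Ah T) = r.comp (residue Ah) :=
    RingHom.ext fun a => j.commutes (residue Ah a)
  have hrA : (r.comp (residue Ah)).comp (algebraMap A Ah) = Brnch.toClosure A := RingHom.ext fun a => by
    change algebraMap (ResidueField A) K (e₀.symm (residue Ah (algebraMap A Ah a))) = _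
    rw [show residue Ah (algebraMap A Ah a) = e₀ (residue A a) from rfl, RingEquiv.symm_apply_apply]
    rfl
  obtain ⟨e⟩ := BrnchLib.nonempty_minimalPrimes_equiv_tensor Ah T (Hensel.isHenzLike_of_isStrictHenselization Ah T)
    (NormCpl A) (fun n _ => BrnchLib.isDomain_localization_tensor_strict Ah T (NormCpl A)
      (fun m _ => isDomain_normCpl A h m) n) (bijOn_normCpl A) (birational_normCpl A)
  obtain ⟨e'⟩ := BrnchLib.nonempty_maximalSpectrum_tensor_equiv Ah T (NormCpl A) K j.toRingHom (r.comp (residue Ah)) hj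
  have hmaxK : ∀ {R : Type u} [CommRing R] [IsLocalRing R] (f : ResidueField R →+* K),
      (RingHom.ker (f.comp (residue R))).IsMaximal := fun {R} _ _ f => by
    have hk : RingHom.ker (f.comp (residue R)) = maximalIdeal R := by
      ext x
      rw [RingHom.mem_ker, RingHom.comp_apply, map_eq_zero, residue_eq_zero_iff]
    rw [hk]; infer_instance
  obtain ⟨e₁⟩ := nonempty_sigma_equiv (B := NormCpl A) (r.comp (residue Ah)) (hmaxK r)
  obtain ⟨e₂⟩ := nonempty_sigma_equiv (B := N) (Brnch.toClosure A) (hmaxK (algebraMap (ResidueField A) K))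
  let iN : N →+* NormCpl A := (Algebra.TensorProduct.includeRight : N →ₐ[A] NormCpl A).toRingHom
  let e₃ : {φ : NormCpl A →+* K // φ.comp (algebraMap Ah (NormCpl A)) = r.comp (residue Ah)} ≃
      {φ : N →+* K // φ.comp (algebraMap A N) = Brnch.toClosure A} := Equiv.ofBijective
    (fun φ => ⟨φ.1.comp iN, by
      rw [RingHom.comp_assoc, show iN.comp (algebraMap A N) = (algebraMap Ah (NormCpl A)).comp (algebraMap A Ah) from
        RingHom.ext fun a => by
          simp [iN, ← IsScalarTower.algebraMap_apply], ← RingHom.comp_assoc, φ.2, hrA]⟩)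
    ⟨fun φ ψ hφψ => Subtype.ext (RingHom.ext fun c => by
      induction c using TensorProduct.induction_on with
      | zero => simp
      | tmul t n =>
        rw [show t ⊗ₜ[A] n = algebraMap Ah (NormCpl A) t * iN n by simp [iN], map_mul, map_mul]
        congr 1
        · exact (RingHom.congr_fun φ.2 t).trans (RingHom.congr_fun ψ.2 t).symm
        · exact RingHom.congr_fun (congrArg Subtype.val hφψ) n
      | add x y hx hy => rw [map_add, map_add, hx, hy]),
     fun φ => by
      letI : Algebra A K := (Brnch.toClosure A).toAlgebra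
      let f : Ah →ₐ[A] K := ⟨r.comp (residue Ah), fun a => RingHom.congr_fun hrA a⟩
      let g : N →ₐ[A] K := ⟨φ.1, fun a => RingHom.congr_fun φ.2 a⟩
      refine ⟨⟨(Algebra.TensorProduct.lift f g fun _ _ => Commute.all _ _).toRingHom, RingHom.ext fun t => ?_⟩,
        Subtype.ext (RingHom.ext fun n => ?_)⟩
      · simp [f]
      · simp [iN, g, f]⟩
  refine ENat.card_congr ((e.trans e').trans ((e₁.trans e₃).trans (e₂.symm.trans
    (Equiv.sigmaCongrRight fun m => Equiv.subtypeEquivRight fun σ => ?_))))
  rw [show Brnch.toResidue A m = (Ideal.Quotient.mk m.asIdeal).comp (algebraMap A N) from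
    congrArg (RingHom.comp _) (IsScalarTower.algebraMap_eq A (CAlg2.red A) N).symm]

/-- Geometrically normal formal fibres: the branch numbers do not change under completion. -/
theorem numBranches_cpl (h : EGA4.HasGeomNormalFormalFibres A) : Brnch.numBranches Ah = Brnch.numBranches A := by
  classical
  haveI := FormalFib6.isNoetherianRing_adicCompletion A (maximalIdeal A)
  haveI : Finite (minimalPrimes A) := (minimalPrimes.finite_of_isNoetherianRing A).to_subtype
  haveI hT := BrnchLib.henselianLocalRing_completion A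
  haveI : IsLocalHom (algebraMap Ah Ah) := ⟨fun _ hu => hu⟩
  haveI := Hensel.isHenselization_self Ah hT
  rw [← BrnchLib.card_minimalPrimes_henselization Ah Ah]
  unfold Brnch.numBranches
  rw [if_pos (minimalPrimes.finite_of_isNoetherianRing A)]
  obtain ⟨e⟩ := BrnchLib.nonempty_minimalPrimes_equiv_maximalSpectrum Ah Ah (NormCpl A)
    (fun m _ => isDomain_normCpl A h m) (bijOn_normCpl A) (birational_normCpl A)
  refine ENat.card_congr (e.trans ?_)
  let iN : N →+* NormCpl A := (Algebra.TensorProduct.includeRight : N →ₐ[A] NormCpl A).toRingHom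
  have hmapmax : maximalIdeal Ah = (maximalIdeal A).map (algebraMap A Ah) :=
    AdicCompletion.maximalIdeal_eq_map_of_fg (IsNoetherian.noetherian _)
  have hcomm : iN.comp (algebraMap A N) = (algebraMap Ah (NormCpl A)).comp (algebraMap A Ah) :=
    RingHom.ext fun a => by simp [iN, ← IsScalarTower.algebraMap_apply]
  -- modulo the maximal ideal the completed normalization is the normalization
  have hcong : ∀ c : NormCpl A, ∃ n : N, c - iN n ∈ (maximalIdeal Ah).map (algebraMap Ah (NormCpl A)) := fun c => by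
    induction c using TensorProduct.induction_on with
    | zero => exact ⟨0, by simp⟩
    | tmul t n =>
      obtain ⟨a, ha⟩ := (residue_bijective_cpl A).2 (residue Ah t)
      obtain ⟨a, rfl⟩ := residue_surjective a
      refine ⟨algebraMap A N a * n, ?_⟩
      have : t ⊗ₜ[A] n - iN (algebraMap A N a * n) = algebraMap Ah (NormCpl A) (t - algebraMap A Ah a) * iN n := by
        rw [map_mul, show iN (algebraMap A N a) = algebraMap Ah (NormCpl A) (algebraMap A Ah a) from
          RingHom.congr_fun hcomm a, map_sub, sub_mul]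
        simp [iN]
      rw [this]
      refine Ideal.mul_mem_right _ _ (Ideal.mem_map_of_mem _ ?_)
      exact Ideal.Quotient.eq.mp ha.symm
    | add x y hx hy =>
      obtain ⟨a, ha⟩ := hx
      obtain ⟨b, hb⟩ := hy
      exact ⟨a + b, by rw [map_add, add_sub_add_comm]; exact add_mem ha hb⟩
  have hover : ∀ n : MaximalSpectrum (NormCpl A), (maximalIdeal Ah).map (algebraMap Ah (NormCpl A)) ≤ n.asIdeal := fun n => by
    haveI := n.isMaximal
    exact Ideal.map_le_iff_le_comap.mpr (eq_maximalIdeal (Ideal.isMaximal_comap_of_isIntegral_of_isMaximal n.asIdeal)).ge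
  refine Equiv.ofBijective (fun n => ⟨n.asIdeal.comap iN, by
    haveI := n.isMaximal
    refine Ideal.isMaximal_of_isIntegral_of_isMaximal_comap (R := A) _ ?_
    rw [Ideal.comap_comap, hcomm, ← Ideal.comap_comap,
      eq_maximalIdeal (Ideal.isMaximal_comap_of_isIntegral_of_isMaximal n.asIdeal), maximalIdeal_comap]
    infer_instance⟩) ⟨fun n n' hnn => MaximalSpectrum.ext (Ideal.ext fun c => ?_), fun M => ?_⟩
  · obtain ⟨b, hb⟩ := hcong c
    have h1 := SetLike.ext_iff.1 (congrArg MaximalSpectrum.asIdeal hnn) b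
    simp only [Ideal.mem_comap] at h1
    rw [← sub_add_cancel c (iN b), n.asIdeal.add_mem_iff_right (hover n hb), n'.asIdeal.add_mem_iff_right (hover n' hb), h1]
  · haveI := M.isMaximal
    letI := Ideal.Quotient.field M.asIdeal
    have hMA : M.asIdeal.comap (algebraMap A N) = maximalIdeal A :=
      eq_maximalIdeal (Ideal.isMaximal_comap_of_isIntegral_of_isMaximal M.asIdeal)
    let q : ResidueField A →+* N ⧸ M.asIdeal := Ideal.Quotient.lift (maximalIdeal A)
      ((Ideal.Quotient.mk M.asIdeal).comp (algebraMap A N)) fun a ha => Ideal.Quotient.eq_zero_iff_mem.2 (hMA.ge ha)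
    let e₀ := RingEquiv.ofBijective _ (residue_bijective_cpl A)
    let f : Ah →ₐ[A] N ⧸ M.asIdeal :=
      { toRingHom := q.comp (e₀.symm.toRingHom.comp (residue Ah))
        commutes' := fun a => by
          change q (e₀.symm (residue Ah (algebraMap A Ah a))) = _
          rw [show residue Ah (algebraMap A Ah a) = e₀ (residue A a) from rfl, RingEquiv.symm_apply_apply]
          rfl }
    let G := Algebra.TensorProduct.lift f (Ideal.Quotient.mkₐ A M.asIdeal) fun _ _ => Commute.all _ _
    have hG : ∀ b, G (iN b) = Ideal.Quotient.mk M.asIdeal b := fun b => by simp [G, iN, f]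
    haveI : (RingHom.ker G.toRingHom).IsMaximal := RingHom.ker_isMaximal_of_surjective G.toRingHom fun x => by
      obtain ⟨b, rfl⟩ := Ideal.Quotient.mk_surjective x
      exact ⟨iN b, hG b⟩
    refine ⟨⟨RingHom.ker G.toRingHom, inferInstance⟩, MaximalSpectrum.ext (Ideal.ext fun b => ?_)⟩
    change G (iN b) = 0 ↔ _
    rw [hG, Ideal.Quotient.eq_zero_iff_mem]

end

end Groth.Agent.Punctured93
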